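import Groth.Agent.DerivedCoh.StalkAmp.Basic
import Groth.Agent.DerivedCoh.PCoh.Perfect
import Groth.Agent.DerivedCoh.PCoh.TopCohomology
import Groth.Prelude.Def_KSix

/-!
Perfect amplitude.
-/

universe u

open CategoryTheory CategoryTheory.Limits AlgebraicGeometry HomologicalComplex
open Groth.DerivedCoh.KFlat (stk T tmCx IsKFlat)
open Groth.KTheory.Perf (Rd Rc rdQIso)

namespace Groth.DerivedCoh.StalkAmp

attribute [local instance] HasDerivedCategory.standard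

variable {X U : Scheme.{u}}

local notation "up" => ComplexShape.up ℤ

/-- a strictly perfect complex of flat amplitude `[m, n]` has a finite locally free model in `[m, n]` -/
theorem exists_locFree_model {P : CochainComplex U.Modules ℤ} (hP : DCoh.IsStrictlyPerfect P)
    {m n : ℤ} (hmn : m ≤ n) (h : DCoh.HasFlatAmplitudeIn m n (DCoh.toD U P)) :
    ∃ E : CochainComplex U.Modules ℤ, DCoh.VanishesOutside E m n ∧
      (∀ i, FlatMod.IsFinLocFree (E.X i)) ∧ Nonempty (DCoh.toD U P ≅ DCoh.toD U E) := by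
  have hex : ∀ i, n < i → P.ExactAt i := fun i hi => exactAt_of_stalkAmp P (stalkAmp_of_flatAmp h) (.inr hi)
  let Q := P.truncLE n
  have : P.IsLE n := (CochainComplex.isLE_iff P n).2 hex
  have hQ : QuasiIso (P.ιTruncLE n) := (P.quasiIso_ιTruncLE_iff n).2 inferInstance
  have hQfl : ∀ i, FlatMod.IsFinLocFree (Q.X i) := fun i => by
    rcases lt_trichotomy i n with hi | rfl | hi
    · exact Groth.KTheory.LocFree.isFinLocFree_of_iso (P.truncLEXIso n i hi).symm (hP.2 i)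
    · exact Groth.KTheory.LocFree.isFinLocFree_of_iso (P.truncLEXIsoCycles i).symm
        (PCoh.isFinLocFree_cycles hP i hex le_rfl)
    · exact Groth.KTheory.LocFree.isFinLocFree_zero (Q.isZero_of_isStrictlyLE n i hi)
  let eQ : DCoh.toD U Q ≅ DCoh.toD U P := asIso (DerivedCategory.Q.map (P.ιTruncLE n))
  have hQ0 : ∀ p, n < p → IsZero (Q.X p) := fun p hp => Q.isZero_of_isStrictlyLE n p hp
  have hK : IsKFlat (T U) Q := KFlat.isKFlat_of_flat (T U) _ n hQ0 fun q =>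
    KFlat.flat_of_isFlat (PCoh.isFlat_of_isFinLocFree (hQfl q))
  have hexQ : ∀ i, i < m → ∀ G : U.Modules, ((tmCx G).obj Q).ExactAt i := fun i hi G => by
    have := KFlat.hasLTensorMod G
    rw [← KFlat.isZero_hd_toD_iff]
    exact KFlat.isZero_hd_of_iso ((KFlat.ltmQIso G _ hK).symm ≪≫ (DCoh.LTensorMod G).mapIso eQ)
      (KFlat.torAmp_of_flatAmp h G i (.inl hi))
  have : Q.IsGE m := (CochainComplex.isGE_iff Q m).2 fun i hi =>
    KFlat.exactAt_of_tensor Q i (hexQ i hi)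
  refine ⟨Q.truncGE m, fun i hi => ?_, fun i => ?_,
    ⟨eQ.symm ≪≫ asIso (DerivedCategory.Q.map (Q.πTruncGE m))⟩⟩
  · rcases hi with hi | hi
    · exact (Q.truncGE m).isZero_of_isStrictlyGE m i hi
    · exact (Q.truncGEXIso m i (by lia)).isZero_iff.2 (hQ0 i hi)
  · rcases lt_trichotomy i m with hi | rfl | hi
    · exact Groth.KTheory.LocFree.isFinLocFree_zero ((Q.truncGE m).isZero_of_isStrictlyGE m i hi)
    · exact Groth.KTheory.LocFree.isFinLocFree_of_iso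
        (Q.truncGEXIsoOpcycles i ≪≫
          IsColimit.coconePointUniqueUpToIso (Q.opcyclesIsCokernel (i - 1) i (by simp))
            (cokernelIsCokernel _)).symm
        (PCoh.isFinLocFree_coker (hQfl _) (hQfl _) _
          (KFlat.isFlat_coker Q i (PCoh.isFlat_of_isFinLocFree (hQfl i)) (hexQ (i - 1) (by lia))))
    · exact Groth.KTheory.LocFree.isFinLocFree_of_iso (Q.truncGEXIso m i hi).symm (hQfl i)

theorem hasPerfectAmplitudeIn_iff (K : DCoh.D X) (m n : ℤ) :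
    KSix.HasPerfectAmplitudeIn m n K ↔ ∀ x : X, ∃ V : X.Opens, x ∈ V ∧
      ∃ E : CochainComplex (V : Scheme.{u}).Modules ℤ, DCoh.VanishesOutside E m n ∧
        (∀ i : ℤ, FlatMod.IsFinLocFree (E.X i)) ∧
        Nonempty ((Rd V.ι).obj K ≅ DCoh.toD _ E) := by
  refine ⟨fun h x => ?_, fun h x => ?_⟩
  · obtain ⟨V, hx, hV⟩ := h x
    obtain ⟨F, ⟨i⟩⟩ := Groth.KTheory.Perf.exists_rep K
    obtain ⟨E, h0, hfl, ⟨e⟩⟩ := hV F ⟨i⟩
    exact ⟨V, hx, E, h0, hfl, ⟨(Rd V.ι).mapIso i.symm ≪≫ rdQIso _ F ≪≫ e⟩⟩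
  · obtain ⟨V, hx, E, h0, hfl, ⟨e⟩⟩ := h x
    exact ⟨V, hx, fun F ⟨i⟩ => ⟨E, h0, hfl, ⟨(rdQIso _ F).symm ≪≫ (Rd V.ι).mapIso i ≪≫ e⟩⟩⟩

theorem perfectAmplitude_iff (K : DCoh.D X) (m n : ℤ) (hmn : m ≤ n) :
    KSix.HasPerfectAmplitudeIn m n K ↔
      DCoh.IsPseudoCoherentD (m - 1) K ∧ DCoh.HasFlatAmplitudeIn m n K := by
  rw [hasPerfectAmplitudeIn_iff]
  constructor
  · intro h
    refine ⟨PCoh.isPseudoCoherentD_of_isPerfect ((Groth.KTheory.Perf.isPerfect_iff K).2 fun x => ?_) _,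
      flatAmp_of_local fun x => ?_⟩
    · obtain ⟨V, hx, E, h0, hfl, e⟩ := h x
      exact ⟨V, hx, E, ⟨⟨m, n, h0⟩, hfl⟩, e⟩
    · obtain ⟨V, hx, E, h0, hfl, ⟨e⟩⟩ := h x
      exact ⟨V, hx, E, h0, fun i => PCoh.isFlat_of_isFinLocFree (hfl i), ⟨e.symm⟩⟩
  · rintro ⟨h1, h2⟩ x
    obtain ⟨V, hx, P, hP, ⟨e⟩⟩ :=
      (Groth.KTheory.Perf.isPerfect_iff K).1 (PCoh.isPerfect_of_flatAmp h2 h1) x
    obtain ⟨F, h0, hfl, ⟨eF⟩⟩ := h2
    obtain ⟨E, hE0, hEfl, ⟨e'⟩⟩ := exists_locFree_model hP hmn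
      ⟨(Rc V.ι).obj F, fun i hi => Groth.KTheory.Perf.rc_isZero V.ι (h0 i hi),
        fun i => PCoh.isFlat_restrict _ (hfl i),
        ⟨(rdQIso _ F).symm ≪≫ (Rd V.ι).mapIso eF ≪≫ e⟩⟩
    exact ⟨V, hx, E, hE0, hEfl, ⟨e ≪≫ e'⟩⟩

end Groth.DerivedCoh.StalkAmp
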