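import Groth.Agent.DerivedCoh.KFlat.Amplitude
import Groth.Agent.DerivedCoh.KFlat.SchemePullback
import Groth.Agent.DAlg.FlatAmp
import Groth.Agent.KTheory.Perf
import Groth.Prelude.Def_DerSch
import Mathlib.Algebra.Category.ModuleCat.Descent
import Mathlib.RingTheory.RingHom.Flat

/-!
Tor amplitude on the stalks and flat amplitude of objects of `D(O_X)`.
-/

universe u

open CategoryTheory CategoryTheory.Limits AlgebraicGeometry MonoidalCategory HomologicalComplex

namespace Groth.DerivedCoh.StalkAmp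

open Groth.DerivedCoh.KFlat (stk T tmCx IsKFlat)

attribute [local instance] HasDerivedCategory.standard

variable {X U : Scheme.{u}}

local notation "up" => ComplexShape.up ℤ

/-- the complex of stalks -/
noncomputable abbrev stkCx (x : X) : CochainComplex X.Modules ℤ ⥤ DRing.Cx (X.presheaf.stalk x) :=
  (stk x).mapHomologicalComplex up

/-- the stalk functor on derived categories -/
noncomputable abbrev stkD (x : X) : DCoh.D X ⥤ Dual.D (X.presheaf.stalk x) :=
  (stk x).mapDerivedCategory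

/-- the stalk functor on derived categories, computed on complexes -/
noncomputable def stkDQ (x : X) (F : CochainComplex X.Modules ℤ) :
    (stkD x).obj (DCoh.toD X F) ≅ DRing.toD ((stkCx x).obj F) :=
  (stk x).mapDerivedCategoryFactors.app F

/-- stalk tor amplitude of an object -/
def HasStalkAmp (a b : ℤ) (K : DCoh.D X) : Prop :=
  ∀ x : X, DRing.HasTorAmplitudeIn (X.presheaf.stalk x) a b ((stkD x).obj K)

lemma torAmp_of_iso {R : Type u} [CommRing R] {K L : Dual.D R} {a b : ℤ} (e : K ≅ L)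
    (h : DRing.HasTorAmplitudeIn R a b K) : DRing.HasTorAmplitudeIn R a b L := by
  obtain ⟨E, hE, hF, ⟨e'⟩⟩ := h
  exact ⟨E, hE, hF, ⟨e' ≪≫ e⟩⟩

lemma stalkAmp_toD_iff (F : CochainComplex X.Modules ℤ) (a b : ℤ) :
    HasStalkAmp a b (DCoh.toD X F) ↔
      ∀ x, DRing.HasTorAmplitudeIn (X.presheaf.stalk x) a b (DRing.toD ((stkCx x).obj F)) :=
  forall_congr' fun x => ⟨torAmp_of_iso (stkDQ x F), torAmp_of_iso (stkDQ x F).symm⟩

lemma HasStalkAmp.of_iso {K L : DCoh.D X} (e : K ≅ L) {a b : ℤ} (h : HasStalkAmp a b K) : HasStalkAmp a b L :=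
  fun x => torAmp_of_iso ((stkD x).mapIso e) (h x)

lemma exactAt_of_stalk (F : CochainComplex X.Modules ℤ) (i : ℤ)
    (h : ∀ x : X, ((stkCx x).obj F).ExactAt i) : F.ExactAt i := by
  rw [exactAt_iff, (KFlat.stk_jointly (X := X)).exact_iff]
  exact h

theorem stalkAmp_of_flatAmp {K : DCoh.D X} {a b : ℤ} (h : DCoh.HasFlatAmplitudeIn a b K) :
    HasStalkAmp a b K := by
  obtain ⟨E, h0, hf, ⟨e⟩⟩ := h
  refine HasStalkAmp.of_iso e ((stalkAmp_toD_iff E a b).2 fun x => ?_)
  exact ⟨(stkCx x).obj E, fun i hi => (stk x).map_isZero (h0 i hi), fun i => hf i x, ⟨Iso.refl _⟩⟩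

lemma exactAt_of_stalkAmp (F : CochainComplex X.Modules ℤ) {a b : ℤ}
    (h : HasStalkAmp a b (DCoh.toD X F)) {i : ℤ} (hi : i < a ∨ b < i) : F.ExactAt i := by
  refine exactAt_of_stalk F i fun x => ?_
  obtain ⟨E, hE, -, ⟨e⟩⟩ := (stalkAmp_toD_iff F a b).1 h x
  rw [exactAt_iff_isZero_homology]
  exact (HomologicalComplex.ExactAt.of_isZero (hE i hi)).isZero_homology.of_iso
    (((DerivedCategory.homologyFunctorFactors _ i).app _).symm ≪≫
      (DerivedCategory.homologyFunctor _ i).mapIso e.symm ≪≫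
        (DerivedCategory.homologyFunctorFactors _ i).app _)

theorem flatAmp_of_stalkAmp {K : DCoh.D X} {a b : ℤ} (h : HasStalkAmp a b K) :
    DCoh.HasFlatAmplitudeIn a b K := by
  obtain ⟨C, ⟨eC⟩⟩ : ∃ C : CochainComplex X.Modules ℤ, Nonempty (DCoh.toD X C ≅ K) :=
    ⟨_, ⟨DerivedCategory.Q.objObjPreimageIso K⟩⟩
  by_cases hab : a ≤ b
  swap
  · have hz : IsZero K := by
      refine IsZero.of_iso ?_ eC.symm
      have hC : C.Acyclic := fun i => exactAt_of_stalkAmp C (h.of_iso eC.symm) (by omega)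
      let Z : CochainComplex X.Modules ℤ := HomologicalComplex.zero
      let z : C ⟶ Z := 0
      have : QuasiIso z := ⟨fun i => (quasiIsoAt_iff_exactAt z i (hC i)).2
        (HomologicalComplex.ExactAt.of_isZero (isZero_zero X.Modules))⟩
      exact IsZero.of_iso (DerivedCategory.Q.map_isZero HomologicalComplex.isZero_zero)
        (asIso (DerivedCategory.Q.map z))
    exact ⟨HomologicalComplex.zero, fun i _ => isZero_zero X.Modules,
      fun i => KFlat.isFlat_of_isZero (isZero_zero X.Modules),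
      ⟨(DerivedCategory.Q.map_isZero HomologicalComplex.isZero_zero).iso hz⟩⟩
  refine KFlat.flatAmp_of_torAmp K a b hab fun G _ i hi => ?_
  -- a bounded above flat representative
  have hC : C.IsLE b := by
    rw [CochainComplex.isLE_iff]
    exact fun i hi => exactAt_of_stalkAmp C (h.of_iso eC.symm) (.inr hi)
  let C' := C.truncLE b
  have h0 : ∀ p, b < p → IsZero (C'.X p) := fun p hp => C'.isZero_of_isStrictlyLE b p hp
  have := (KFlat.schemeCover X).quasiIso_resAug C' b h0
  let P := (KFlat.schemeCover X).res.obj C'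
  let β : P ⟶ C := (KFlat.schemeCover X).resAug.app C' ≫ C.ιTruncLE b
  have hP0 : ∀ p, b < p → IsZero (P.X p) := (KFlat.schemeCover X).res_X_zero C' b h0
  have hPf : ∀ n, FlatMod.IsFlat (P.X n) := fun n =>
    (KFlat.schemeCover X).res_X_prop FlatMod.IsFlat KFlat.isFlat_coverObj
      (fun _ => KFlat.isFlat_of_isZero)
      (fun e h => Groth.CohTwo.isFlat_of_iso e.symm h) KFlat.isFlat_sigma₀ C' n
  have hK : IsKFlat (T X) P :=
    KFlat.isKFlat_of_flat (T X) _ b hP0 fun q => KFlat.flat_of_isFlat (hPf q)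
  have hβ : QuasiIso β := by dsimp [β]; infer_instance
  let eP : DCoh.toD X P ≅ K := asIso (DerivedCategory.Q.map β) ≪≫ eC
  refine KFlat.isZero_hd_of_iso ((DCoh.LTensorMod G).mapIso eP.symm ≪≫ KFlat.ltmQIso G P hK) ?_
  rw [KFlat.isZero_hd_toD_iff]
  refine exactAt_of_stalk _ i fun x => ?_
  have hz := Groth.DAlg.isZero_of_torAmplitude ((stkCx x).obj P)
    (b' := b) (fun p hp => (stk x).map_isZero (hP0 p hp)) (fun n => hPf n x)
    ((stalkAmp_toD_iff P a b).1 (h.of_iso eP.symm) x) ((stk x).obj G) i hi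
  exact ((exactAt_iff_isZero_homology _ i).2 hz).of_iso
    ((NatIso.mapHomologicalComplex (KFlat.tensorFlipStkIso G x) up).app P).symm

theorem flatAmp_iff_stalkAmp (K : DCoh.D X) (a b : ℤ) :
    DCoh.HasFlatAmplitudeIn a b K ↔ HasStalkAmp a b K :=
  ⟨stalkAmp_of_flatAmp, flatAmp_of_stalkAmp⟩

lemma torAmp_restrictScalars_id {R : Type u} [CommRing R] (f : R →+* R) (hf : f = RingHom.id R)
    (K : DRing.Cx R) (a b : ℤ) :
    DRing.HasTorAmplitudeIn R a b
        (DRing.toD (((ModuleCat.restrictScalars f).mapHomologicalComplex up).obj K)) ↔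
      DRing.HasTorAmplitudeIn R a b (DRing.toD K) := by
  let e : DRing.toD (((ModuleCat.restrictScalars f).mapHomologicalComplex up).obj K) ≅ DRing.toD K :=
    DerivedCategory.Q.mapIso ((NatIso.mapHomologicalComplex (ModuleCat.restrictScalarsId' f hf) up).app K ≪≫
      (Functor.mapHomologicalComplexIdIso (ModuleCat.{u} R) up).app K)
  exact ⟨torAmp_of_iso e, torAmp_of_iso e.symm⟩

theorem hasTorAmplitude_id_iff (F : CochainComplex X.Modules ℤ) (a b : ℤ) :
    DerSch.HasTorAmplitude (𝟙 X) a b F ↔ HasStalkAmp a b (DCoh.toD X F) := by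
  rw [stalkAmp_toD_iff]
  exact forall_congr' fun x => torAmp_restrictScalars_id (R := X.presheaf.stalk x)
    ((𝟙 X : X ⟶ X).stalkMap x).hom (congrArg CommRingCat.Hom.hom (Scheme.Hom.stalkMap_id X x))
    ((stkCx x).obj F) a b

section restrict

variable (j : U ⟶ X) [IsOpenImmersion j] (v : U)

/-- the inverse of the stalk map of an open immersion -/
noncomputable abbrev stalkInv : U.presheaf.stalk v →+* X.presheaf.stalk (j v) :=
  (inv (j.stalkMap v)).hom

/-- stalks on `X` from stalks of the restriction -/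
noncomputable def stkRestrictIso :
    Scheme.Modules.restrictFunctor j ⋙ stk v ⋙ ModuleCat.extendScalars (stalkInv j v) ≅ stk (j v) :=
  have h : (stalkInv j v).comp (j.stalkMap v).hom = RingHom.id _ := by
    rw [← CommRingCat.hom_comp, IsIso.hom_inv_id]
    rfl
  Functor.isoWhiskerRight (Scheme.Modules.restrictFunctorIsoPullback j) _ ≪≫
    (Functor.associator _ _ _).symm ≪≫ Functor.isoWhiskerRight (KFlat.pullStkIso j v) _ ≪≫
    Functor.associator _ _ _ ≪≫
    Functor.isoWhiskerLeft (stk (j v))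
      ((ModuleCat.extendScalarsComp _ _).symm ≪≫ eqToIso (by rw [h]) ≪≫ ModuleCat.extendScalarsId _) ≪≫
    Functor.rightUnitor _

instance : PreservesFiniteLimits (ModuleCat.extendScalars.{u, u, u} (stalkInv j v)) :=
  ModuleCat.preservesFiniteLimits_extendScalars_of_flat
    (RingHom.Flat.of_bijective (ConcreteCategory.bijective_of_isIso (inv (j.stalkMap v))))

instance : PreservesFiniteColimits (ModuleCat.extendScalars.{u, u, u} (stalkInv j v)) :=
  have := (ModuleCat.extendRestrictScalarsAdj.{u, u, u} (stalkInv j v)).leftAdjoint_preservesColimits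
  inferInstance

/-- stalk tor amplitude is local -/
theorem torAmp_stkD_of_restrict {K : DCoh.D X} {a b : ℤ}
    (h : HasStalkAmp a b ((Scheme.Modules.restrictFunctor j).mapDerivedCategory.obj K)) :
    DRing.HasTorAmplitudeIn (X.presheaf.stalk (j v)) a b ((stkD (j v)).obj K) := by
  obtain ⟨C, ⟨eC⟩⟩ : ∃ C : CochainComplex X.Modules ℤ, Nonempty (DCoh.toD X C ≅ K) :=
    ⟨_, ⟨DerivedCategory.Q.objObjPreimageIso K⟩⟩
  let R := ((Scheme.Modules.restrictFunctor j).mapHomologicalComplex up).obj C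
  obtain ⟨E, hE, hEf, ⟨e⟩⟩ := (stalkAmp_toD_iff R a b).1
    (h.of_iso ((Scheme.Modules.restrictFunctor j).mapDerivedCategory.mapIso eC.symm ≪≫
      (Scheme.Modules.restrictFunctor j).mapDerivedCategoryFactors.app C)) v
  let G := ModuleCat.extendScalars.{u, u, u} (stalkInv j v)
  refine ⟨(G.mapHomologicalComplex up).obj E, fun i hi => G.map_isZero (hE i hi),
    fun i => KFlat.flat_extendScalars _ (E.X i) (hEf i), ⟨?_⟩⟩
  exact (G.mapDerivedCategoryFactors.app E).symm ≪≫ G.mapDerivedCategory.mapIso e ≪≫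
    G.mapDerivedCategoryFactors.app ((stkCx v).obj R) ≪≫
    DerivedCategory.Q.mapIso ((NatIso.mapHomologicalComplex (stkRestrictIso j v) up).app C) ≪≫
    (stkDQ (j v) C).symm ≪≫ (stkD (j v)).mapIso eC

end restrict

/-- flat amplitude is local -/
theorem flatAmp_of_local {K : DCoh.D X} {a b : ℤ}
    (h : ∀ x : X, ∃ V : X.Opens, x ∈ V ∧ DCoh.HasFlatAmplitudeIn a b
      ((Scheme.Modules.restrictFunctor V.ι).mapDerivedCategory.obj K)) :
    DCoh.HasFlatAmplitudeIn a b K :=
  flatAmp_of_stalkAmp fun x => by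
    obtain ⟨V, hx, hV⟩ := h x
    exact torAmp_stkD_of_restrict V.ι ⟨x, hx⟩ (stalkAmp_of_flatAmp hV)

end Groth.DerivedCoh.StalkAmp
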