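import Groth.Agent.DerivedCoh.StalkAmp.Basic
import Groth.Agent.DerivedCoh.KFlat.LpullComp
import Groth.Agent.DescentBase.FlatTower

/-!
Tor amplitude descends along flat surjective morphisms.
-/

universe u

open CategoryTheory CategoryTheory.Limits AlgebraicGeometry HomologicalComplex
open Groth.DerivedCoh.KFlat (stk T IsKFlat pullCx)

namespace Groth.DerivedCoh.StalkAmp

attribute [local instance] HasDerivedCategory.standard

local notation "up" => ComplexShape.up ℤ

/-- flatness descends along faithfully flat base change -/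
lemma flat_of_extendScalars {R S : Type u} [CommRing R] [CommRing S] (φ : R →+* S)
    (hφ : φ.FaithfullyFlat) (N : ModuleCat.{u} R)
    (h : Module.Flat S ((ModuleCat.extendScalars φ).obj N)) : Module.Flat R N := by
  let _ := φ.toAlgebra
  have : Module.FaithfullyFlat R S := hφ
  have : Module.Flat S (TensorProduct R S N) := h
  have : Module.Flat R (TensorProduct R S N) := Module.Flat.trans R S (TensorProduct R S N)
  exact Groth.DescentBase.flat_of_flat_baseChange R R S N

lemma isZero_of_extendScalars {R S : Type u} [CommRing R] [CommRing S] (φ : R →+* S)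
    (hφ : φ.FaithfullyFlat) (N : ModuleCat.{u} R) (h : IsZero ((ModuleCat.extendScalars φ).obj N)) :
    IsZero N := by
  let _ := φ.toAlgebra
  have : Module.FaithfullyFlat R S := hφ
  have : Subsingleton (TensorProduct R S N) := ModuleCat.subsingleton_of_isZero h
  exact ModuleCat.isZero_iff_subsingleton.2
    ((Module.FaithfullyFlat.subsingleton_tensorProduct_iff_right R S).1 this)

/-- tor amplitude descends along faithfully flat ring maps -/
theorem torAmp_of_extendScalars {R S : Type u} [CommRing R] [CommRing S] (φ : R →+* S)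
    (hφ : φ.FaithfullyFlat) (P : DRing.Cx R) {a b : ℤ}
    (h : DRing.HasTorAmplitudeIn S a b
      (DRing.toD (((ModuleCat.extendScalars.{u, u, u} φ).mapHomologicalComplex up).obj P))) :
    DRing.HasTorAmplitudeIn R a b (DRing.toD P) := by
  let G := ModuleCat.extendScalars.{u, u, u} φ
  have : PreservesColimits G :=
    (ModuleCat.extendRestrictScalarsAdj.{u, u, u} φ).leftAdjoint_preservesColimits
  have := ModuleCat.preservesFiniteLimits_extendScalars_of_flat hφ.flat
  have hz : ∀ (Q : DRing.Cx R), (DRing.toD Q ≅ DRing.toD P) → ∀ i,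
      IsZero (((G.mapHomologicalComplex up).obj Q).homology i) → IsZero (Q.homology i) := fun Q _ i hi =>
    isZero_of_extendScalars φ hφ _ (hi.of_iso ((Q.sc i).mapHomologyIso G).symm)
  obtain ⟨E, hE, hEf, ⟨eE⟩⟩ := id h
  have hb : ∀ i, b < i → Subsingleton (Dual.HD R (DRing.toD P) i) := fun i hi =>
    Groth.DAlg.subsingleton_HD_toD (hz P (Iso.refl _) i (Groth.DAlg.isZero_homology_of_subsingleton
      (Groth.DAlg.subsingleton_HD_of_iso eE (hE i (.inr hi)))))
  obtain ⟨Q, hQ, hQf, ⟨eQ⟩⟩ := Groth.DAlg.exists_free_rep R hb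
  let eG : DRing.toD ((G.mapHomologicalComplex up).obj Q) ≅
      DRing.toD ((G.mapHomologicalComplex up).obj P) :=
    (G.mapDerivedCategoryFactors.app Q).symm ≪≫ G.mapDerivedCategory.mapIso eQ ≪≫
      G.mapDerivedCategoryFactors.app P
  have hflat : ∀ i, Module.Flat R (Q.X i) := fun i => haveI := hQf i; inferInstance
  let GQ := (G.mapHomologicalComplex up).obj Q
  have hGf : DRing.TermwiseFlat GQ := fun i => KFlat.flat_extendScalars φ (Q.X i) (hflat i)
  have hGb : DRing.VanishesAbove GQ b := fun i hi => G.map_isZero (hQ i hi)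
  have hamp : DRing.HasTorAmplitudeIn S a b (DRing.toD GQ) := torAmp_of_iso eG.symm h
  have hvan : ∀ (M : ModuleCat.{u} S) i, i < a → IsZero ((DRing.tensorCx GQ M).homology i) :=
    fun M i hi => Groth.DAlg.isZero_of_torAmplitude GQ hGb hGf hamp M i (.inl hi)
  have : ∀ i, Module.Flat S (GQ.X i) := hGf
  have hcoker : Module.Flat R (Groth.FlatCxBase.Coker Q (a - 1) a) := by
    have h1 := Groth.DAlg.flat_coker_of_isZero GQ a fun M => hvan M (a - 1) (by omega)
    let e : G.obj (ModuleCat.of R (Groth.FlatCxBase.Coker Q (a - 1) a)) ≅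
        ModuleCat.of S (Groth.FlatCxBase.Coker GQ (a - 1) a) :=
      G.mapIso (ModuleCat.cokernelIsoRangeQuotient (Q.d (a - 1) a)).symm ≪≫
        PreservesCokernel.iso G _ ≪≫ ModuleCat.cokernelIsoRangeQuotient (GQ.d (a - 1) a)
    exact flat_of_extendScalars φ hφ _ (Module.Flat.of_linearEquiv e.toLinearEquiv)
  have hz' : ∀ i < a, IsZero (Q.homology i) := fun i hi =>
    hz Q eQ i (Groth.DAlg.isZero_homology_of_tensor fun M => hvan M i hi)
  obtain ⟨e'⟩ := Groth.DAlg.nonempty_truncGE_iso hz'
  let Φ : ObjectProperty (ModuleCat.{u} R) := fun X => Module.Flat R X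
  have : Φ.IsClosedUnderIsomorphisms :=
    ⟨fun {X Y} e (hX : Module.Flat R X) => Module.Flat.of_linearEquiv e.toLinearEquiv.symm⟩
  exact ⟨Q.truncGE a, Groth.DAlg.vanishesOutside_truncGE Q a hQ,
    Groth.DAlg.truncGE_X_of_prop Φ Q a
      (fun X hX => haveI := ModuleCat.subsingleton_of_isZero hX; show Module.Flat R X from inferInstance)
      (fun i _ => hflat i) hcoker,
    ⟨e' ≪≫ eQ⟩⟩

/-- tor amplitude descends along flat surjective morphisms -/
theorem flatAmp_descends {X Y : Scheme.{u}} (f : X ⟶ Y) [Flat f] [Surjective f] [DCoh.HasLpull f]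
    (E : DCoh.D Y) (a b : ℤ) (h : DCoh.HasFlatAmplitudeIn a b ((DCoh.Lpull f).obj E)) :
    DCoh.HasFlatAmplitudeIn a b E := by
  obtain ⟨C, ⟨eC⟩⟩ := Groth.KTheory.Perf.exists_rep E
  have := KFlat.flatResolution_quasiIso C
  let P := (KFlat.flatResolution Y).obj C
  have hP : IsKFlat (T Y) P := KFlat.flatResolution_isKFlat C
  let eP : DCoh.toD Y P ≅ E :=
    asIso (DerivedCategory.Q.map ((KFlat.flatResolutionAug Y).app C)) ≪≫ eC
  have h' := (stalkAmp_toD_iff _ a b).1 ((stalkAmp_of_flatAmp h).of_iso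
    ((DCoh.Lpull f).mapIso eP.symm ≪≫ KFlat.lpullQIso f P hP))
  refine flatAmp_of_stalkAmp (HasStalkAmp.of_iso eP ((stalkAmp_toD_iff P a b).2 fun y => ?_))
  obtain ⟨x, rfl⟩ := f.surjective y
  have hflat : (f.stalkMap x).hom.FaithfullyFlat := by
    let _ := (f.stalkMap x).hom.toAlgebra
    have : Module.Flat (Y.presheaf.stalk (f x)) (X.presheaf.stalk x) := Flat.stalkMap f x
    have : IsLocalHom (algebraMap (Y.presheaf.stalk (f x)) (X.presheaf.stalk x)) :=
      inferInstanceAs (IsLocalHom (f.stalkMap x).hom)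
    exact Module.FaithfullyFlat.of_flat_of_isLocalHom
  refine torAmp_of_extendScalars (f.stalkMap x).hom hflat _ ?_
  exact torAmp_of_iso (DerivedCategory.Q.mapIso
    ((NatIso.mapHomologicalComplex (KFlat.pullStkIso f x) up).app P)) (h' x)

end Groth.DerivedCoh.StalkAmp
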