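import Groth.Agent.DerivedCoh.StalkAmp.Basic
import Groth.Agent.QCohMod.QCQS
import Groth.Agent.QCohMod.Affine

/-!
Tor amplitude can be tested on quasi-coherent modules.
-/

universe u

open CategoryTheory CategoryTheory.Limits AlgebraicGeometry MonoidalCategory HomologicalComplex Opposite

namespace Groth.DerivedCoh.StalkAmp

open Groth.DerivedCoh.KFlat (stk T tmCx IsKFlat)

attribute [local instance] HasDerivedCategory.standard

variable {X : Scheme.{u}}

local notation "up" => ComplexShape.up ℤ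

/-- a module over a local ring of a quasi-separated scheme is the stalk of a quasi-coherent module -/
theorem exists_qcoh_stalk [QuasiSeparatedSpace X] (x : X) (N : ModuleCat.{u} (X.presheaf.stalk x)) :
    ∃ G : X.Modules, G.IsQuasicoherent ∧ Nonempty ((stk x).obj G ≅ N) := by
  obtain ⟨U, hU, hx⟩ := Groth.QCohMod.exists_affine_mem x
  let φ : Γ(X, U) →+* X.presheaf.stalk x := (X.presheaf.germ U x hx).hom
  let N₀ : ModuleCat.{u} Γ(X, U) := (ModuleCat.restrictScalars φ).obj N
  let f := hU.fromSpec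
  let G := (Scheme.Modules.pushforward f).obj (tilde N₀)
  have hGq : G.IsQuasicoherent := Groth.QCohMod.isQCoh_pushforward (M := tilde N₀) f
  -- sections over `U`
  let e₀ : Γ(G, U) ≃+ Γ(tilde N₀, ⊤) :=
    ((tilde N₀).presheaf.mapIso (eqToIso hU.fromSpec_preimage_self.symm).op).addCommGroupIsoToAddEquiv
  let e : Γ(G, U) ≃+ N₀ := e₀.trans (tilde.isoTop N₀).toLinearEquiv.symm.toAddEquiv
  have he : ∀ (r : Γ(X, U)) (m : Γ(G, U)), e (r • m) = r • e m := fun r m => by
    have h1 : e₀ (r • m) = (Scheme.ΓSpecIso Γ(X, U)).inv r • e₀ m := by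
      change (tilde N₀).presheaf.map (eqToHom hU.fromSpec_preimage_self.symm).op (f.app U r • _) = _
      rw [Scheme.Modules.map_smul]
      congr 1
      rw [← CommRingCat.comp_apply]
      change (hU.fromSpec.app U ≫ _) r = _
      rw [hU.fromSpec_app_self, Category.assoc, ← Functor.map_comp, ← op_comp, eqToHom_trans,
        eqToHom_refl, op_id, CategoryTheory.Functor.map_id, Category.comp_id]
    change (tilde.isoTop N₀).toLinearEquiv.symm (e₀ (r • m)) =
      r • (tilde.isoTop N₀).toLinearEquiv.symm (e₀ m)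
    rw [h1]
    exact (tilde.isoTop N₀).toLinearEquiv.symm.map_smul r _
  letI := Groth.QCohMod.stalkModule G x hx
  let S := (hU.primeIdealOf ⟨x, hx⟩).asIdeal.primeCompl
  have := Groth.QCohMod.isLocalizedModule_germ G hU x hx
  have hunit : ∀ a : S, IsUnit (φ a.1) := fun a =>
    (Scheme.mem_basicOpen X a.1 x hx).mp
      ((Groth.QCohMod.mem_basicOpen_iff_notMem_primeIdealOf hU a.1 x hx).mpr a.2)
  let g : Γ(G, U) →ₗ[Γ(X, U)] N₀ := { e.toAddMonoidHom with map_smul' := he }
  have : IsLocalizedModule S g := by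
    refine ⟨fun a => ?_, fun y => ?_, fun {m₁ m₂} h => ⟨1, ?_⟩⟩
    · rw [Module.End.isUnit_iff]
      have hb : Function.Bijective fun y : N => φ a.1 • y := (hunit a).smul_bijective
      exact hb
    · exact ⟨⟨e.symm y, 1⟩, (one_smul _ _).trans (e.apply_symm_apply y).symm⟩
    · rw [one_smul, one_smul]
      exact e.injective h
  let ψ := IsLocalizedModule.linearEquiv S (Groth.QCohMod.germₗ G x hx) g
  have hψ : ∀ (c : X.presheaf.stalk x) (t : G.presheaf.stalk x),
      ψ (c • t) = (show N from c • (show N from ψ t)) := fun c t => by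
    letI : Algebra Γ(X, U) (X.presheaf.stalk x) := φ.toAlgebra
    have : IsLocalization S (X.presheaf.stalk x) := hU.isLocalization_stalk ⟨x, hx⟩
    obtain ⟨⟨r, s⟩, hrs⟩ := IsLocalization.surj S c
    have hb : Function.Bijective fun y : N => φ (s : Γ(X, U)) • y := (hunit s).smul_bijective
    refine hb.1 ?_
    have h1 : (show N from ψ ((s : Γ(X, U)) • (c • t))) = φ s • (show N from ψ (c • t)) :=
      ψ.map_smul (s : Γ(X, U)) (c • t)
    have h2 : (show N from ψ (r • t)) = φ r • (show N from ψ t) := ψ.map_smul r t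
    have h3 : (s : Γ(X, U)) • (c • t) = r • t := by
      change φ s • (c • t) = φ r • t
      rw [smul_smul, mul_comm]
      exact congrArg (· • t) hrs
    have hrs' : φ s * c = φ r := (mul_comm _ _).trans hrs
    change φ s • (show N from ψ (c • t)) = φ s • (c • (show N from ψ t))
    rw [← h1, h3, h2, smul_smul, hrs']
  let Ψ : G.presheaf.stalk x ≃ₗ[X.presheaf.stalk x] N :=
    { toFun := fun t => ψ t
      invFun := fun y => ψ.symm y
      map_add' := map_add ψ
      map_smul' := hψ
      left_inv := ψ.symm_apply_apply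
      right_inv := ψ.apply_symm_apply }
  exact ⟨G, hGq, ⟨LinearEquiv.toModuleIso (X₁ := ((stk x).obj G : ModuleCat _)) Ψ⟩⟩

/-- tor amplitude tested on quasi-coherent modules gives flat amplitude -/
theorem flatAmp_of_qcoh_test [QuasiSeparatedSpace X] (K : DCoh.D X) (a b : ℤ)
    (h : ∀ (F : X.Modules), Coh.IsQCoh F → ∀ [DCoh.HasLTensorMod F] (i : ℤ), (i < a ∨ b < i) →
      IsZero (DCoh.HD ((DCoh.LTensorMod F).obj K) i)) :
    DCoh.HasFlatAmplitudeIn a b K := by
  -- the stalks of a K-flat representative tensored with any module are exact outside `[a, b]`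
  have key : ∀ (P : CochainComplex X.Modules ℤ), IsKFlat (T X) P → (DCoh.toD X P ≅ K) →
      ∀ (x : X) (N : ModuleCat.{u} (X.presheaf.stalk x)) (i : ℤ), (i < a ∨ b < i) →
        (DRing.tensorCx ((stkCx x).obj P) N).ExactAt i := fun P hP eP x N i hi => by
    obtain ⟨G, hG, ⟨eG⟩⟩ := exists_qcoh_stalk x N
    have := KFlat.hasLTensorMod G
    have h1 : ((tmCx G).obj P).ExactAt i := by
      rw [← KFlat.isZero_hd_toD_iff]
      exact KFlat.isZero_hd_of_iso ((KFlat.ltmQIso G P hP).symm ≪≫ (DCoh.LTensorMod G).mapIso eP)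
        (h G hG i hi)
    have h2 : ((stkCx x).obj ((tmCx G).obj P)).ExactAt i := ShortComplex.Exact.map h1 (stk x)
    exact h2.of_iso ((NatIso.mapHomologicalComplex (KFlat.tensorFlipStkIso G x ≪≫
      Functor.isoWhiskerLeft (stk x) ((curriedTensor _).flip.mapIso eG)) up).app P)
  obtain ⟨C, ⟨eC⟩⟩ : ∃ C : CochainComplex X.Modules ℤ, Nonempty (DCoh.toD X C ≅ K) :=
    ⟨_, ⟨DerivedCategory.Q.objObjPreimageIso K⟩⟩
  have := KFlat.flatResolution_quasiIso C
  have hC : C.IsLE b := by
    rw [CochainComplex.isLE_iff]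
    intro i hi
    have hP : ((KFlat.flatResolution X).obj C).ExactAt i := exactAt_of_stalk _ i fun x => by
      have h1 := key _ (KFlat.flatResolution_isKFlat C)
        (asIso (DerivedCategory.Q.map ((KFlat.flatResolutionAug X).app C)) ≪≫ eC) x
        (𝟙_ (ModuleCat.{u} (X.presheaf.stalk x))) i (.inr hi)
      exact h1.of_iso ((NatIso.mapHomologicalComplex (rightUnitorNatIso _) up).app _ ≪≫
        (Functor.mapHomologicalComplexIdIso (ModuleCat.{u} (X.presheaf.stalk x)) up).app _)
    exact (quasiIsoAt_iff_exactAt ((KFlat.flatResolutionAug X).app C) i hP).1 inferInstance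
  let C' := C.truncLE b
  have h0 : ∀ p, b < p → IsZero (C'.X p) := fun p hp => C'.isZero_of_isStrictlyLE b p hp
  have := (KFlat.schemeCover X).quasiIso_resAug C' b h0
  let P := (KFlat.schemeCover X).res.obj C'
  let β : P ⟶ C := (KFlat.schemeCover X).resAug.app C' ≫ C.ιTruncLE b
  have hP0 : ∀ p, b < p → IsZero (P.X p) := (KFlat.schemeCover X).res_X_zero C' b h0
  have hPf : ∀ n, FlatMod.IsFlat (P.X n) := fun n =>
    (KFlat.schemeCover X).res_X_prop FlatMod.IsFlat KFlat.isFlat_coverObj
      (fun _ => KFlat.isFlat_of_isZero)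
      (fun e h => Groth.CohTwo.isFlat_of_iso e.symm h) KFlat.isFlat_sigma₀ C' n
  have hK : IsKFlat (T X) P :=
    KFlat.isKFlat_of_flat (T X) _ b hP0 fun q => KFlat.flat_of_isFlat (hPf q)
  have hβ : QuasiIso β := by dsimp [β]; infer_instance
  let eP : DCoh.toD X P ≅ K := asIso (DerivedCategory.Q.map β) ≪≫ eC
  refine flatAmp_of_stalkAmp (HasStalkAmp.of_iso eP ((stalkAmp_toD_iff P a b).2 fun x => ?_))
  exact Groth.DAlg.torAmplitude_of_isZero ((stkCx x).obj P)
    (fun p hp => (stk x).map_isZero (hP0 p hp)) (fun n => hPf n x)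
    fun N i hi => (exactAt_iff_isZero_homology _ i).1 (key P hK eP x N i (.inl hi))

theorem torAmp_iff_qcoh_test [QuasiSeparatedSpace X] (K : DCoh.D X) (a b : ℤ) :
    DCoh.HasTorAmplitudeIn a b K ↔
      ∀ (F : X.Modules), Coh.IsQCoh F → ∀ [DCoh.HasLTensorMod F] (i : ℤ), (i < a ∨ b < i) →
        IsZero (DCoh.HD ((DCoh.LTensorMod F).obj K) i) :=
  ⟨fun h F _ _ i hi => h F i hi, fun h => KFlat.torAmp_of_flatAmp (flatAmp_of_qcoh_test K a b h)⟩

end Groth.DerivedCoh.StalkAmp
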