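import Groth.Agent.DerivedCoh.StalkAmp.Perfect
import Groth.Agent.DAlg.TorAmp
import Groth.Agent.S7033
import Groth.Agent.S6946
import Groth.Agent.QCohMod.ExtendFP

/-!
Pseudo-coherent objects with bounded cohomology over local rings of finite tor dimension are perfect.
-/

universe u

open CategoryTheory CategoryTheory.Limits CategoryTheory.Pretriangulated AlgebraicGeometry
  HomologicalComplex
open Groth.DerivedCoh.KFlat (stk T)
open Groth.KTheory.Perf (Rd Rc rdQIso)
open Groth.DerivedCoh.PCoh (Near Below)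

namespace Groth.DerivedCoh.StalkAmp

attribute [local instance] HasDerivedCategory.standard

variable {X U : Scheme.{u}}

local notation "up" => ComplexShape.up ℤ

lemma isZero_hd_stkD {K : DCoh.D U} (v : U) {i : ℤ} (h : IsZero (DCoh.HD K i)) :
    IsZero ((DerivedCategory.homologyFunctor _ i).obj ((stkD v).obj K)) := by
  obtain ⟨C, ⟨e⟩⟩ := Groth.KTheory.Perf.exists_rep K
  have hC : C.ExactAt i := (KFlat.isZero_hd_toD_iff C i).1 (KFlat.isZero_hd_of_iso e h)
  have : ((stkCx v).obj C).ExactAt i := ShortComplex.Exact.map hC (stk v)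
  exact this.isZero_homology.of_iso ((DerivedCategory.homologyFunctor _ i).mapIso
    ((stkD v).mapIso e.symm ≪≫ stkDQ v C) ≪≫ (DerivedCategory.homologyFunctorFactors _ i).app _)

lemma near_stkD (v : U) {m : ℤ} {K L : DCoh.D U} {α : K ⟶ L} (h : Near m α) :
    Near m ((stkD v).map α) := by
  obtain ⟨C, p, q, hT⟩ := distinguished_cocone_triangle α
  exact PCoh.near_of_below _ ((stkD v).map_distinguished _ hT)
    (fun i hi => isZero_hd_stkD v (PCoh.below_of_near _ hT h i hi))

/-- the cokernel of a differential of an approximation is flat -/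
theorem flat_coker_of_near {R : Type u} [CommRing R] (P : DRing.Cx R) {d : ℤ}
    (hPd : DRing.VanishesAbove P d) (hPp : ∀ i, Module.Projective R (P.X i)) {K : Dual.D R}
    {m a b a' : ℤ} (α : DRing.toD P ⟶ K) (hα : Near m α)
    (hK : DRing.HasTorAmplitudeIn R a b K) (hm : m + 2 ≤ a') (ha : a' ≤ a) :
    Module.Flat R (P.X a' ⧸ LinearMap.range (P.d (a' - 1) a').hom) := by
  obtain ⟨E, hE, hEf, ⟨e⟩⟩ := hK
  obtain ⟨g, hg⟩ := Groth.DAlg.exists_map_of_projective (E := E) hPd hPp (α ≫ e.inv)
  let C := CochainComplex.mappingCone g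
  have hPf : DRing.TermwiseFlat P := fun i => haveI := hPp i; inferInstance
  have hCf : ∀ i, Module.Flat R (C.X i) := Groth.DAlg.flat_cone_X g hPf hEf
  have hCb : DRing.VanishesAbove C (max d b) := fun i hi =>
    (CochainComplex.mappingCone.isZero_X_iff g i).2
      ⟨hPd _ (by omega), hE i (Or.inr (by omega))⟩
  have hnear : Near m (DerivedCategory.Q.map g) := by
    rw [hg]; exact hα.comp (PCoh.near_of_isIso _)
  have hB := PCoh.below_of_near _ (DerivedCategory.mappingCone_triangle_distinguished g) hnear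
  have hC : ∀ p, m ≤ p → IsZero (C.homology p) := fun p hp =>
    (hB p hp).of_iso ((DerivedCategory.homologyFunctorFactors _ p).app C).symm
  have : ∀ i, Module.Flat R (P.X i) := hPf
  refine Groth.DAlg.flat_coker_of_isZero P a' fun M => ?_
  -- `H(C ⊗ M) = 0` in degree `a' - 2`, and `E ⊗ M` is zero in degree `a' - 1`
  let F := MonoidalCategory.tensorRight M
  let g' := (F.mapHomologicalComplex up).map g
  have hz : IsZero ((DRing.tensorCx C M).homology (a' - 1 - 1)) := by
    rw [← exactAt_iff_isZero_homology,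
      exactAt_iff' _ (a' - 1 - 1 - 1) (a' - 1 - 1) (a' - 1 - 1 + 1) (by simp) (by simp),
      ShortComplex.moduleCat_exact_iff]
    exact fun x hx => Groth.DAlg.exact_rTensor_of_acyclicAbove C (j := a' - 1 - 1) hCb
      (fun p hp => hC p (by omega)) M x hx
  have hzC : IsZero ((DerivedCategory.homologyFunctor _ (a' - 1 - 1)).obj
      (DRing.toD (CochainComplex.mappingCone g'))) :=
    (hz.of_iso ((homologyFunctor _ _ (a' - 1 - 1)).mapIso
      (CochainComplex.mappingCone.mapHomologicalComplexIso g F)).symm).of_iso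
      ((DerivedCategory.homologyFunctorFactors _ _).app _)
  have hzE : IsZero ((DerivedCategory.homologyFunctor _ (a' - 1)).obj
      (DRing.toD ((F.mapHomologicalComplex up).obj E))) :=
    (HomologicalComplex.ExactAt.of_isZero
      (F.map_isZero (hE (a' - 1) (Or.inl (by omega))))).isZero_homology.of_iso
      ((DerivedCategory.homologyFunctorFactors _ _).app _)
  have h := (DerivedCategory.HomologySequence.exact₁ _
    (DerivedCategory.mappingCone_triangle_distinguished g') (a' - 1 - 1) (a' - 1)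
    (by omega)).isZero_of_both_zeros (hzC.eq_of_src _ _) (hzE.eq_of_tgt _ _)
  exact h.of_iso ((DerivedCategory.homologyFunctorFactors _ _).app _).symm

/-- bounded cohomology over a ring with all modules of finite tor dimension: finite tor amplitude -/
theorem exists_torAmp_of_bounded {R : Type u} [CommRing R]
    (hR : ∀ (M : Type u) [AddCommGroup M] [Module R M], DRing.HasFiniteTorDim R M) (K : Dual.D R)
    (c d : ℤ) (hK : ∀ i, i < c ∨ d < i → IsZero ((DerivedCategory.homologyFunctor _ i).obj K)) :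
    ∃ a : ℤ, DRing.HasTorAmplitudeIn R a d K := by
  have : ∀ M : ModuleCat.{u} R, DRing.HasLTensor R M := Groth.DAlg.hasLTensor
  choose n hn using fun i : ℤ => hR (Dual.HD R K i)
  let N := (Finset.Icc c d).sup n
  refine ⟨c - N, Groth.Agent.S7033.result R (c - N) d K
    ⟨c, d, fun i hi => ModuleCat.subsingleton_of_isZero (hK i hi)⟩ fun i => ?_⟩
  by_cases hi : i ∈ Finset.Icc c d
  · have h1 : n i ≤ N := Finset.le_sup hi
    simp only [Finset.mem_Icc] at hi
    exact Groth.DAlg.TorAmp.mono (((Groth.Agent.S6946.result R (Dual.HD R K i) (n i)).1).1 (hn i))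
      (by omega) (by omega)
  · simp only [Finset.mem_Icc, not_and_or, not_le] at hi
    exact Groth.DAlg.TorAmp.of_isZero
      (Functor.map_isZero _ (ModuleCat.isZero_iff_subsingleton.2
        (ModuleCat.subsingleton_of_isZero (hK i hi)))) _ _

theorem isPerfect_of_pseudoCoherent_bounded
    (hX : ∀ (x : X) (M : Type u) [AddCommGroup M] [Module (X.presheaf.stalk x) M],
      DRing.HasFiniteTorDim (X.presheaf.stalk x) M)
    (K : DCoh.D X) (c d : ℤ) [K.IsGE c] [K.IsLE d] (hp : ∀ m : ℤ, DCoh.IsPseudoCoherentD m K) :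
    DCoh.IsPerfect K := by
  rw [Groth.KTheory.Perf.isPerfect_iff]
  intro x
  have hbd : ∀ i, i < c ∨ d < i → IsZero (DCoh.HD K i) := fun i hi => by
    rcases hi with hi | hi
    · exact DerivedCategory.isZero_of_isGE K c i hi
    · exact DerivedCategory.isZero_of_isLE K d i hi
  obtain ⟨a, ha⟩ := exists_torAmp_of_bounded (hX x) ((stkD x).obj K) c d fun i hi =>
    isZero_hd_stkD x (hbd i hi)
  let a' : ℤ := min a c
  obtain ⟨V, hxV, P, α, hP, hα⟩ := (PCoh.isPseudoCoherentD_iff (a' - 2) K).1 (hp (a' - 2)) x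
  let v : (V : Scheme.{u}) := ⟨x, hxV⟩
  have hKV : ∀ i, i < c → IsZero (DCoh.HD ((Rd V.ι).obj K) i) := fun i hi =>
    ((Scheme.Modules.restrictFunctor V.ι).map_isZero (hbd i (.inl hi))).of_iso
      (Groth.KTheory.Perf.nonempty_hdRd V.ι K i).some
  -- tor amplitude of the stalk on `V`
  obtain ⟨C, ⟨eC⟩⟩ := Groth.KTheory.Perf.exists_rep K
  have hav : DRing.HasTorAmplitudeIn ((V : Scheme.{u}).presheaf.stalk v) a d
      ((stkD v).obj ((Rd V.ι).obj K)) := by
    obtain ⟨E, hE, hEf, ⟨e⟩⟩ := ha
    let G := ModuleCat.extendScalars.{u, u, u} (V.ι.stalkMap v).hom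
    have := ModuleCat.preservesFiniteLimits_extendScalars_of_flat
      (RingHom.Flat.of_bijective (ConcreteCategory.bijective_of_isIso (V.ι.stalkMap v)))
    have : PreservesColimits G :=
      (ModuleCat.extendRestrictScalarsAdj.{u, u, u} (V.ι.stalkMap v).hom).leftAdjoint_preservesColimits
    refine ⟨(G.mapHomologicalComplex up).obj E, fun i hi => G.map_isZero (hE i hi),
      fun i => KFlat.flat_extendScalars _ (E.X i) (hEf i), ⟨?_⟩⟩
    let e' : Scheme.Modules.restrictFunctor V.ι ⋙ stk v ≅ stk (V.ι v) ⋙ G :=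
      Functor.isoWhiskerRight (Scheme.Modules.restrictFunctorIsoPullback V.ι) _ ≪≫
        KFlat.pullStkIso V.ι v
    exact (G.mapDerivedCategoryFactors.app E).symm ≪≫
      G.mapDerivedCategory.mapIso (e ≪≫ (stkD x).mapIso eC.symm ≪≫ stkDQ x C) ≪≫
      G.mapDerivedCategoryFactors.app ((stkCx (V.ι v)).obj C) ≪≫
      DerivedCategory.Q.mapIso ((NatIso.mapHomologicalComplex e' up).app C).symm ≪≫
      (stkDQ v ((Rc V.ι).obj C)).symm ≪≫
      (stkD v).mapIso ((rdQIso V.ι C).symm ≪≫ (Rd V.ι).mapIso eC)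
  -- the cokernel is flat at `x`, hence free near `x`
  obtain ⟨⟨p, q, hpq⟩, hfl⟩ := id hP
  let M := cokernel (P.d (a' - 1) a')
  have hMx : Module.Free ((V : Scheme.{u}).presheaf.stalk v) (M.presheaf.stalk v) := by
    have hfin := fun i => Groth.LocFree.finite_stalk (hfl i) v
    have hfree := fun i => Groth.PropsBasic.LocFree.free_stalk _ (hfl i) v
    have hflat := flat_coker_of_near ((stkCx v).obj P) (d := q)
      (fun i hi => (stk v).map_isZero (hpq i (.inr hi)))
      (fun i => @Module.Projective.of_free _ _ _ _ _ (hfree i))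
      ((stkDQ v P).inv ≫ (stkD v).map α) ((PCoh.near_of_isIso _).comp (near_stkD v hα)) hav
      (by omega) (min_le_left a c)
    let em : (stk v).obj M ≅ ModuleCat.of _ (((stkCx v).obj P).X a' ⧸
        LinearMap.range (((stkCx v).obj P).d (a' - 1) a').hom) :=
      PreservesCokernel.iso (stk v) _ ≪≫ ModuleCat.cokernelIsoRangeQuotient _
    have : Module.Finite ((V : Scheme.{u}).presheaf.stalk v) (((stkCx v).obj P).X a') := hfin a'
    have h2 : Module.Free ((V : Scheme.{u}).presheaf.stalk v) (((stkCx v).obj P).X a' ⧸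
        LinearMap.range (((stkCx v).obj P).d (a' - 1) a').hom) :=
      @Module.free_of_flat_of_isLocalRing _ _ _ _ _ _ inferInstance hflat
    exact Module.Free.of_equiv em.symm.toLinearEquiv
  have := PCoh.isQCoh_coker (hfl (a' - 1)) (hfl a') (P.d (a' - 1) a')
  have hMfp : CohB1.IsFP M := by
    have := Groth.KTheory.LocFree.isQCoh (hfl (a' - 1))
    have := Groth.KTheory.LocFree.isQCoh (hfl a')
    exact Groth.QCohMod.isFP_cokernel_of_isFT _ (Groth.PropsBasic.LocFree.isFP_of_isFinLocFree _ (hfl a'))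
      (Groth.PropsBasic.LocFree.isFT_of_isFP _ (Groth.PropsBasic.LocFree.isFP_of_isFinLocFree _ (hfl _)))
  obtain ⟨W, n, hvW, ⟨eM⟩⟩ := Groth.PropsBasic.LocFree.exists_free_nhd M hMfp v hMx
  let T₀ := P.truncGE a'
  have hT : DCoh.IsStrictlyPerfect ((Rc W.ι).obj T₀) := by
    refine ⟨⟨a', max a' q, fun i hi => Groth.KTheory.Perf.rc_isZero W.ι ?_⟩, fun i => ?_⟩
    · rcases hi with hi | hi
      · exact T₀.isZero_of_isStrictlyGE a' i hi
      · exact (P.truncGEXIso a' i (by lia)).isZero_iff.2 (hpq i (.inr (by lia)))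
    · rcases lt_trichotomy i a' with hi | rfl | hi
      · exact Groth.KTheory.LocFree.isFinLocFree_zero
          (Groth.KTheory.Perf.rc_isZero W.ι (T₀.isZero_of_isStrictlyGE a' i hi))
      · exact Groth.KTheory.LocFree.isFinLocFree_of_iso
          ((Scheme.Modules.restrictFunctor W.ι).mapIso
            (P.truncGEXIsoOpcycles a' ≪≫
              IsColimit.coconePointUniqueUpToIso (P.opcyclesIsCokernel (a' - 1) a' (by simp))
                (cokernelIsCokernel _)) ≪≫ eM).symm
          (Groth.LocFree.isFinLocFree_freeMod _ n)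
      · exact (Groth.KTheory.Perf.rc_isStrictlyPerfect W.ι hP).2 i |>
          Groth.KTheory.LocFree.isFinLocFree_of_iso
            ((Scheme.Modules.restrictFunctor W.ι).mapIso (P.truncGEXIso a' i hi).symm)
  -- `τ_{≥ a'} P` represents `K` on `V`
  let F := (Rc V.ι).obj C
  let eF : DCoh.toD _ F ≅ (Rd V.ι).obj K := (rdQIso V.ι C).symm ≪≫ (Rd V.ι).mapIso eC
  obtain ⟨Y, g, s, hs, hfac⟩ := DerivedCategory.left_fac (α ≫ eF.inv)
  have hsq : QuasiIso s := (DerivedCategory.isIso_Q_map_iff_quasiIso _ s).1 hs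
  have hg : DerivedCategory.Q.map g = (α ≫ eF.inv) ≫ DerivedCategory.Q.map s := by
    rw [hfac, Category.assoc, IsIso.inv_hom_id, Category.comp_id]
  have hgn : Near (a' - 2) (DerivedCategory.Q.map g) := by
    rw [hg]; exact (hα.comp (PCoh.near_of_isIso _)).comp (PCoh.near_of_isIso _)
  have : QuasiIso (CochainComplex.truncGEMap g a') := by
    rw [CochainComplex.quasiIso_truncGEMap_iff]
    intro i hi
    rw [quasiIsoAt_iff_isIso_homologyMap]
    exact (NatIso.isIso_map_iff (DerivedCategory.homologyFunctorFactors _ i) g).1 (hgn.1 i (by lia))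
  have hFge : F.IsGE a' := (CochainComplex.isGE_iff F a').2 fun i hi =>
    (KFlat.isZero_hd_toD_iff F i).1 (KFlat.isZero_hd_of_iso eF (hKV i (by lia)))
  have : QuasiIso (F.πTruncGE a') := (F.quasiIso_πTruncGE_iff a').2 hFge
  have : QuasiIso (CochainComplex.truncGEMap s a') := by
    rw [CochainComplex.quasiIso_truncGEMap_iff]
    exact fun i _ => inferInstance
  let eT : (Rd V.ι).obj K ≅ DCoh.toD _ T₀ :=
    eF.symm ≪≫ asIso (DerivedCategory.Q.map (F.πTruncGE a')) ≪≫
      asIso (DerivedCategory.Q.map (CochainComplex.truncGEMap s a')) ≪≫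
      (asIso (DerivedCategory.Q.map (CochainComplex.truncGEMap g a'))).symm
  obtain ⟨k⟩ := Groth.KTheory.Perf.nonempty_rdComp (k := W.ι) (j := V.ι) (l := W.ι ≫ V.ι) rfl K
  exact ⟨(W.ι ≫ V.ι).opensRange, ⟨⟨⟨x, hxV⟩, hvW⟩, rfl⟩, Groth.KTheory.Perf.perfOn_of_range _ hT
    (k ≪≫ (Rd W.ι).mapIso eT ≪≫ rdQIso _ T₀)⟩

end Groth.DerivedCoh.StalkAmp
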